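import Mathlib
import Cfsg.Agent.Lib.Helper9.S4033.Defs
import Cfsg.Agent.Lib.Helper1.S4033.TA
import Cfsg.Agent.Lib.Helper72.Kazarin

/-!
# S4033, package [K] (the Kazarin step)

Under `HypX`, if `s ≠ p` is the only prime whose part in `a` is smaller than in `|G|`, there is
a solvable normal subgroup containing a noncentral `p`-regular element.
-/

set_option autoImplicit false

namespace Cfsg.Agent.Lib.Helper1.S4033

open Cfsg.Agent.Lib.Helper9.S4033

universe u

theorem pkgK : PkgK.{u} := by
  intro G _ _ p a hp hap hX hu s hs hsp hslt hrle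
  obtain ⟨u, hup, huc⟩ := hu
  have hfact : Fact s.Prime := ⟨hs⟩
  obtain ⟨S⟩ : Nonempty (Sylow s G) := inferInstance
  have hScard : Nat.card ↥(S : Subgroup G) = s ^ (Nat.card G).factorization s :=
    S.card_eq_multiplicity
  have ha0 : a ≠ 0 := by
    rintro rfl
    rw [Nat.coprime_zero_left] at hap
    exact hp.one_lt.ne' hap
  have hcsp : ∀ j : ℕ, (s ^ j).Coprime p := fun j =>
    Nat.Coprime.pow_left _ ((Nat.coprime_primes hs hp).mpr hsp)
  -- no noncentral `p`-regular element is centralized by `S`
  have hnoS : ∀ z : G, (orderOf z).Coprime p → z ∉ Subgroup.center G →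
      ¬ (S : Subgroup G) ≤ Subgroup.centralizer ({z} : Set G) := by
    intro z hzp hzc hle
    obtain ⟨k, hk⟩ := (hX z hzp hzc).2
    have hdvd : s ^ (Nat.card G).factorization s ∣ p ^ k * a := by
      rw [← hScard, ← hk]
      exact Subgroup.card_dvd_of_le hle
    have hdvd' : s ^ (Nat.card G).factorization s ∣ a :=
      Nat.Coprime.dvd_of_dvd_mul_left
        (Nat.Coprime.pow _ _ ((Nat.coprime_primes hs hp).mpr hsp)) hdvd
    have h3 := (hs.pow_dvd_iff_le_factorization ha0).mp hdvd'
    omega
  have hSnc : ¬ (S : Subgroup G) ≤ Subgroup.center G := fun h =>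
    hnoS u hup huc (h.trans (Subgroup.center_le_centralizer _))
  have hSreg : ∀ z ∈ (S : Subgroup G), (orderOf z).Coprime p := by
    intro z hz
    obtain ⟨k, hk⟩ := S.isPGroup' ⟨z, hz⟩
    have h1 : z ^ (s ^ k) = 1 := by
      have h2 := congrArg (fun w : ↥(S : Subgroup G) => (w : G)) hk
      simpa using h2
    obtain ⟨j, -, hj⟩ := (Nat.dvd_prime_pow hs).mp (orderOf_dvd_of_pow_eq_one h1)
    rw [hj]
    exact hcsp j
  have hZS : ∀ z ∈ (S : Subgroup G), (∀ g ∈ (S : Subgroup G), g * z = z * g) →
      z ∈ Subgroup.center G := by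
    intro z hz hcomm
    by_contra hzc
    apply hnoS z (hSreg z hz) hzc
    intro g hg
    rw [mem_cent]
    exact (hcomm g hg).symm
  -- an element of the second centre of `S` outside the centre
  obtain ⟨x, hxS, hxc, hx3⟩ : ∃ x : G, x ∈ (S : Subgroup G) ∧ x ∉ Subgroup.center G ∧
      ∀ g ∈ (S : Subgroup G), x * g * x⁻¹ * g⁻¹ ∈ Subgroup.center G := by
    have hZT : ∀ z : ↥(S : Subgroup G), z ∈ Subgroup.center ↥(S : Subgroup G) →
        (z : G) ∈ Subgroup.center G := by
      intro z hz
      apply hZS z z.2
      intro g hg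
      rw [Subgroup.mem_center_iff] at hz
      have h1 := hz ⟨g, hg⟩
      exact congrArg Subtype.val h1
    have hne : Subgroup.center ↥(S : Subgroup G) ≠ ⊤ := by
      intro htop
      apply hSnc
      intro z hz
      apply hZT ⟨z, hz⟩
      rw [htop]
      exact Subgroup.mem_top _
    have hnt : Nontrivial (↥(S : Subgroup G) ⧸ Subgroup.center ↥(S : Subgroup G)) := by
      rw [QuotientGroup.nontrivial_iff]
      exact hne
    have hQp : IsPGroup s (↥(S : Subgroup G) ⧸ Subgroup.center ↥(S : Subgroup G)) :=
      S.isPGroup'.to_quotient _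
    have hcn := hQp.center_nontrivial
    obtain ⟨⟨q, hq⟩, hq1⟩ := exists_ne (1 : ↥(Subgroup.center
      (↥(S : Subgroup G) ⧸ Subgroup.center ↥(S : Subgroup G))))
    have hq1' : q ≠ 1 := fun h => hq1 (Subtype.ext h)
    obtain ⟨x', rfl⟩ := QuotientGroup.mk_surjective q
    have hx'Z : x' ∉ Subgroup.center ↥(S : Subgroup G) := by
      intro h
      exact hq1' ((QuotientGroup.eq_one_iff x').mpr h)
    refine ⟨(x' : G), x'.2, ?_, ?_⟩
    · intro hc
      apply hx'Z
      rw [Subgroup.mem_center_iff]
      intro g
      apply Subtype.ext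
      rw [Subgroup.mem_center_iff] at hc
      exact hc (g : G)
    · intro g hg
      have h1 : x' * ⟨g, hg⟩ * x'⁻¹ * (⟨g, hg⟩ : ↥(S : Subgroup G))⁻¹ ∈
          Subgroup.center ↥(S : Subgroup G) := by
        rw [← QuotientGroup.eq_one_iff]
        rw [Subgroup.mem_center_iff] at hq
        have h2 := hq (QuotientGroup.mk (⟨g, hg⟩ : ↥(S : Subgroup G)))
        simp only [QuotientGroup.mk_mul, QuotientGroup.mk_inv]
        rw [← h2]
        group
      exact hZT _ h1
  have hxp : (orderOf x).Coprime p := hSreg x hxS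
  obtain ⟨k, hk⟩ := (hX x hxp hxc).2
  -- the preimage of the centralizer of the image of `x` modulo the centre
  have hSle : (S : Subgroup G) ≤ (Subgroup.centralizer
      ({(QuotientGroup.mk x : G ⧸ Subgroup.center G)} : Set (G ⧸ Subgroup.center G))).comap
      (QuotientGroup.mk' (Subgroup.center G)) := by
    intro g hg
    rw [Subgroup.mem_comap, mem_cent]
    show (QuotientGroup.mk x : G ⧸ Subgroup.center G) * QuotientGroup.mk g =
      QuotientGroup.mk g * QuotientGroup.mk x
    rw [← QuotientGroup.mk_mul, ← QuotientGroup.mk_mul, QuotientGroup.eq]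
    have hc := hx3 g⁻¹ (inv_mem hg)
    have hc' := Subgroup.mem_center_iff.mp hc
    have e : (x * g)⁻¹ * (g * x) = x⁻¹ * (x * g⁻¹ * x⁻¹ * g⁻¹⁻¹) * x := by group
    rw [e, mul_assoc, ← hc' x, ← mul_assoc, inv_mul_cancel, one_mul]
    exact hc
  have hCle : Subgroup.centralizer ({x} : Set G) ≤ (Subgroup.centralizer
      ({(QuotientGroup.mk x : G ⧸ Subgroup.center G)} : Set (G ⧸ Subgroup.center G))).comap
      (QuotientGroup.mk' (Subgroup.center G)) := by
    intro g hg
    rw [mem_cent] at hg
    rw [Subgroup.mem_comap, mem_cent]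
    show (QuotientGroup.mk x : G ⧸ Subgroup.center G) * QuotientGroup.mk g =
      QuotientGroup.mk g * QuotientGroup.mk x
    rw [← QuotientGroup.mk_mul, ← QuotientGroup.mk_mul, hg]
  have hidx : (Subgroup.centralizer
      ({(QuotientGroup.mk x : G ⧸ Subgroup.center G)} : Set (G ⧸ Subgroup.center G))).index =
      ((Subgroup.centralizer
      ({(QuotientGroup.mk x : G ⧸ Subgroup.center G)} : Set (G ⧸ Subgroup.center G))).comap
      (QuotientGroup.mk' (Subgroup.center G))).index :=
    (Subgroup.index_comap_of_surjective _ (QuotientGroup.mk'_surjective _)).symm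
  generalize (Subgroup.centralizer
      ({(QuotientGroup.mk x : G ⧸ Subgroup.center G)} : Set (G ⧸ Subgroup.center G))).comap
      (QuotientGroup.mk' (Subgroup.center G)) = Cs at hSle hCle hidx
  have hmul := Subgroup.card_mul_index Cs
  have hGne : Nat.card G ≠ 0 := Nat.card_pos.ne'
  have hn0 : Cs.index ≠ 0 := Subgroup.index_ne_zero_of_finite
  have hpow : Cs.index = p ^ Cs.index.primeFactorsList.length := by
    apply Nat.eq_prime_pow_of_unique_prime_dvd hn0
    intro r hr hrd
    by_contra hrp
    have hdiv : r ^ (Nat.card G).factorization r ∣ Nat.card ↥Cs := by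
      by_cases hrs : r = s
      · rw [hrs, ← hScard]
        exact Subgroup.card_dvd_of_le hSle
      · have h1 : r ^ (Nat.card G).factorization r ∣ r ^ a.factorization r :=
          pow_dvd_pow r (hrle r hr hrp hrs)
        have h2 : r ^ a.factorization r ∣ a := Nat.ordProj_dvd a r
        have h3 : a ∣ Nat.card ↥(Subgroup.centralizer ({x} : Set G)) := by
          rw [hk]
          exact dvd_mul_left a _
        exact (h1.trans h2).trans (h3.trans (Subgroup.card_dvd_of_le hCle))
    have h4 : r ^ ((Nat.card G).factorization r + 1) ∣ Nat.card G := by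
      rw [pow_succ]
      exact (mul_dvd_mul hdiv hrd).trans (dvd_of_eq hmul)
    exact Nat.pow_succ_factorization_not_dvd hGne hr h4
  rw [← hidx] at hpow
  -- Kazarin
  have hsolv := Cfsg.Agent.Lib.Helper72.Kazarin.kazarin
    (QuotientGroup.mk x : G ⧸ Subgroup.center G) hp _ hpow
  refine ⟨(Subgroup.normalClosure
    ({(QuotientGroup.mk x : G ⧸ Subgroup.center G)} : Set (G ⧸ Subgroup.center G))).comap
    (QuotientGroup.mk' (Subgroup.center G)), ?_, ?_, x, ?_, hxc, hxp⟩
  · exact Subgroup.Normal.comap Subgroup.normalClosure_normal _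
  · have hker : Group.IsSolvable ↥(((QuotientGroup.mk' (Subgroup.center G)).subgroupComap
        (Subgroup.normalClosure
        ({(QuotientGroup.mk x : G ⧸ Subgroup.center G)} : Set (G ⧸ Subgroup.center G)))).ker) := by
      apply Group.isSolvable_of_comm
      intro c d
      have hc : ((c : ↥((Subgroup.normalClosure
          ({(QuotientGroup.mk x : G ⧸ Subgroup.center G)} : Set (G ⧸ Subgroup.center G))).comap
          (QuotientGroup.mk' (Subgroup.center G)))) : G) ∈ Subgroup.center G := by
        have h1 := c.2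
        rw [MonoidHom.mem_ker] at h1
        have h2 := congrArg Subtype.val h1
        exact (QuotientGroup.eq_one_iff _).mp h2
      apply Subtype.ext
      apply Subtype.ext
      exact ((Subgroup.mem_center_iff.mp hc) _).symm
    exact Group.isSolvable_of_ker_le_range
      (((QuotientGroup.mk' (Subgroup.center G)).subgroupComap
        (Subgroup.normalClosure
        ({(QuotientGroup.mk x : G ⧸ Subgroup.center G)} : Set (G ⧸ Subgroup.center G)))).ker.subtype)
      ((QuotientGroup.mk' (Subgroup.center G)).subgroupComap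
        (Subgroup.normalClosure
        ({(QuotientGroup.mk x : G ⧸ Subgroup.center G)} : Set (G ⧸ Subgroup.center G))))
      (le_of_eq (Subgroup.range_subtype _).symm)
  · rw [Subgroup.mem_comap]
    exact Subgroup.subset_normalClosure (Set.mem_singleton _)

end Cfsg.Agent.Lib.Helper1.S4033
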